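import Mathlib
import Groth.Prelude.Def_CAlgX
import Groth.Agent.LocalCrit.Complete
import Groth.Agent.EtGlue7.Flat
import Groth.Agent.GrFlat5.AtPrime

/-! Base change of quasi-regular sequences with flat quotient. -/

set_option autoImplicit false
set_option linter.style.haveILetI false
set_option backward.isDefEq.respectTransparency.types false

universe u

open MvPolynomial TensorProduct

namespace Groth.Agent.QRegBC

variable {A B : Type u} [CommRing A] [CommRing B] [Algebra A B] {r : ℕ} (f : Fin r → B)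

local notation "𝐉" => Ideal.span (Set.range f)

/-- Exponents of total degree `n`. -/
def Mon (r n : ℕ) : Finset (Fin r →₀ ℕ) := Finset.finsuppAntidiag Finset.univ n

theorem mem_Mon {r n : ℕ} (d : Fin r →₀ ℕ) : d ∈ Mon r n ↔ Finsupp.degree d = n := by
  simp [Mon, Finset.mem_finsuppAntidiag, Finsupp.degree_eq_sum]

theorem monomial_mem {n : ℕ} {d : Fin r →₀ ℕ} (hd : d ∈ Mon r n) (c : B) :
    eval f (monomial d c) ∈ 𝐉 ^ n :=
  LocalCrit.eval_mem_pow_of_isHomogeneous f (isHomogeneous_monomial c ((mem_Mon d).1 hd))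

theorem homogeneous_sum {n : ℕ} (v : Mon r n → B) :
    (∑ d : Mon r n, monomial (d : Fin r →₀ ℕ) (v d)).IsHomogeneous n :=
  IsHomogeneous.sum _ _ _ fun d _ => isHomogeneous_monomial _ ((mem_Mon _).1 d.2)

/-- `v ↦ ∑ v_d f^d`. -/
noncomputable def Phi (n : ℕ) : (Mon r n → B) →ₗ[B] B ⧸ 𝐉 ^ (n + 1) where
  toFun v := Ideal.Quotient.mk _ (eval f (∑ d : Mon r n, monomial (d : Fin r →₀ ℕ) (v d)))
  map_add' v w := by
    rw [← map_add, ← map_add, ← Finset.sum_add_distrib]
    simp only [Pi.add_apply, map_add]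
  map_smul' a v := by
    simp only [Pi.smul_apply, smul_eq_mul, RingHom.id_apply, map_sum, eval_monomial, mul_assoc, map_mul,
      Finset.smul_sum]
    rfl

theorem Phi_eq_zero (n : ℕ) (hq : CAlgX.IsQuasiRegular f) (v : Mon r n → B) :
    Phi f n v = 0 ↔ ∀ d, v d ∈ 𝐉 := by
  classical
  constructor
  · intro h d
    have := hq n _ (homogeneous_sum v) (Ideal.Quotient.eq_zero_iff_mem.1 h) (d : Fin r →₀ ℕ)
    rw [coeff_sum, Finset.sum_eq_single d (fun e _ he => by
      rw [coeff_monomial, if_neg (fun h => he (Subtype.ext h))]) (by simp), coeff_monomial, if_pos rfl] at this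
    exact this
  · intro h
    refine Ideal.Quotient.eq_zero_iff_mem.2 ?_
    rw [map_sum]
    refine Ideal.sum_mem _ fun d _ => ?_
    rw [eval_monomial, pow_succ']
    refine Ideal.mul_mem_mul (h d) ?_
    have := monomial_mem f d.2 1
    rwa [eval_monomial, one_mul] at this

theorem range_Phi (n : ℕ) :
    LinearMap.range (Phi f n) = Submodule.map (Submodule.mkQ (𝐉 ^ (n + 1))) (𝐉 ^ n) := by
  classical
  refine le_antisymm ?_ ?_
  · rintro _ ⟨v, rfl⟩
    exact Submodule.mem_map_of_mem (LocalCrit.eval_mem_pow_of_isHomogeneous f (homogeneous_sum v))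
  · rintro _ ⟨b, hb, rfl⟩
    obtain ⟨F, hF, rfl⟩ := LocalCrit.exists_isHomogeneous_eval_eq f hb
    refine ⟨fun d => F.coeff (d : Fin r →₀ ℕ), ?_⟩
    show Ideal.Quotient.mk _ (eval f _) = Ideal.Quotient.mk _ (eval f F)
    congr 2
    refine MvPolynomial.ext _ _ fun e => ?_
    rw [coeff_sum]
    by_cases he : e ∈ Mon r n
    · rw [Finset.sum_eq_single ⟨e, he⟩ (fun d _ hd => by
        rw [coeff_monomial, if_neg (fun h => hd (Subtype.ext h))]) (by simp), coeff_monomial, if_pos rfl]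
    · rw [Finset.sum_eq_zero fun d _ => by rw [coeff_monomial, if_neg]; exact fun h : (d : Fin r →₀ ℕ) = e => he (h ▸ d.2)]
      exact (hF.coeff_eq_zero (fun h => he ((mem_Mon e).2 h))).symm

/-- The graded piece map `(B/J)^monomials → B/J^{n+1}`. -/
noncomputable def iota (n : ℕ) (hq : CAlgX.IsQuasiRegular f) :
    (Mon r n → B ⧸ 𝐉) →ₗ[B] B ⧸ 𝐉 ^ (n + 1) :=
  LinearMap.comp
    (Submodule.liftQ (LinearMap.ker ((Submodule.mkQ 𝐉).compLeft (Mon r n))) (Phi f n) (by
      intro v hv
      rw [LinearMap.mem_ker, Phi_eq_zero f n hq]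
      intro d
      exact (Submodule.Quotient.mk_eq_zero _).1 (congrFun (hv : ((Submodule.mkQ 𝐉).compLeft (Mon r n)) v = 0) d)))
    (((Submodule.mkQ 𝐉).compLeft (Mon r n)).quotKerEquivOfSurjective
      (fun w => ⟨fun d => Function.surjInv (Submodule.mkQ_surjective 𝐉) (w d),
        funext fun d => Function.surjInv_eq (Submodule.mkQ_surjective 𝐉) (w d)⟩)).symm.toLinearMap

theorem iota_mk (n : ℕ) (hq : CAlgX.IsQuasiRegular f) (v : Mon r n → B) :
    iota f n hq (fun d => Submodule.Quotient.mk (v d)) = Phi f n v := by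
  unfold iota
  rw [LinearMap.comp_apply]
  have : (((Submodule.mkQ 𝐉).compLeft (Mon r n)).quotKerEquivOfSurjective
      (fun w => ⟨fun d => Function.surjInv (Submodule.mkQ_surjective 𝐉) (w d),
        funext fun d => Function.surjInv_eq (Submodule.mkQ_surjective 𝐉) (w d)⟩)).symm
      (fun d => Submodule.Quotient.mk (v d)) = Submodule.Quotient.mk v := by
    rw [LinearEquiv.symm_apply_eq]
    rfl
  rw [LinearEquiv.coe_toLinearMap, this]
  rfl

theorem iota_injective (n : ℕ) (hq : CAlgX.IsQuasiRegular f) : Function.Injective (iota f n hq) := by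
  refine (injective_iff_map_eq_zero _).2 fun w hw => ?_
  choose v hv using fun d => Submodule.Quotient.mk_surjective 𝐉 (w d)
  rw [show w = fun d => Submodule.Quotient.mk (v d) from funext fun d => (hv d).symm, iota_mk,
    Phi_eq_zero f n hq] at hw
  funext d
  rw [← hv d]
  exact (Submodule.Quotient.mk_eq_zero _).2 (hw d)

theorem iota_exact (n : ℕ) (hq : CAlgX.IsQuasiRegular f) :
    Function.Exact (iota f n hq) (Submodule.factor (Ideal.pow_le_pow_right (Nat.le_succ n) : 𝐉 ^ (n + 1) ≤ 𝐉 ^ n)) := by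
  intro y
  obtain ⟨b, rfl⟩ := Submodule.Quotient.mk_surjective _ y
  constructor
  · intro h
    have hb : b ∈ 𝐉 ^ n := (Submodule.Quotient.mk_eq_zero _).1 h
    obtain ⟨v, hv⟩ := (range_Phi f n).ge (Submodule.mem_map_of_mem hb)
    exact ⟨_, (iota_mk f n hq v).trans hv⟩
  · rintro ⟨w, hw⟩
    choose v hv using fun d => Submodule.Quotient.mk_surjective 𝐉 (w d)
    rw [show w = fun d => Submodule.Quotient.mk (v d) from funext fun d => (hv d).symm, iota_mk] at hw
    obtain ⟨z, hz, hzb⟩ := (range_Phi f n).le ⟨v, hw⟩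
    rw [← hzb]
    exact (Submodule.Quotient.mk_eq_zero _).2 hz

theorem flat_pow (hq : CAlgX.IsQuasiRegular f) [Module.Flat A (B ⧸ 𝐉)] :
    ∀ n, Module.Flat A (B ⧸ 𝐉 ^ n) := by
  intro n
  induction n with
  | zero =>
    haveI : Subsingleton (B ⧸ 𝐉 ^ 0) := Submodule.Quotient.subsingleton_iff.2 (by rw [pow_zero, Ideal.one_eq_top])
    exact Module.Flat.of_free
  | succ n ih =>
    haveI : Module.Flat A (Mon r n → B ⧸ 𝐉) :=
      Module.Flat.of_linearEquiv (DFinsupp.linearEquivFunOnFintype (R := A) (ι := Mon r n) (M := fun _ => B ⧸ 𝐉)).symm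
    exact GrFlat5.flat_of_exact (f := (iota f n hq).restrictScalars A)
      (g := (Submodule.factor (Ideal.pow_le_pow_right (Nat.le_succ n) : 𝐉 ^ (n + 1) ≤ 𝐉 ^ n)).restrictScalars A)
      (iota_injective f n hq) (iota_exact f n hq) (Submodule.factor_surjective (Ideal.pow_le_pow_right (Nat.le_succ n)))

theorem iota_rTensor_injective (hq : CAlgX.IsQuasiRegular f) [Module.Flat A (B ⧸ 𝐉)] (n : ℕ)
    (C : Type u) [AddCommGroup C] [Module A C] :
    Function.Injective (((iota f n hq).restrictScalars A).rTensor C) := by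
  haveI := flat_pow (A := A) f hq n
  exact EtGlue7.rTensor_injective_of_flat ((iota f n hq).restrictScalars A)
    ((Submodule.factor (Ideal.pow_le_pow_right (Nat.le_succ n) : 𝐉 ^ (n + 1) ≤ 𝐉 ^ n)).restrictScalars A)
    (iota_exact f n hq) (Submodule.factor_surjective (Ideal.pow_le_pow_right (Nat.le_succ n))) (iota_injective f n hq) C

variable (A' : Type u) [CommRing A'] [Algebra A A']

theorem isQuasiRegular_baseChange (hq : CAlgX.IsQuasiRegular f) [Module.Flat A (B ⧸ 𝐉)] :
    CAlgX.IsQuasiRegular (fun i => ((1 : A') ⊗ₜ[A] f i : A' ⊗[A] B)) := by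
  classical
  intro n P hP heval d
  let incl : B →ₐ[A] A' ⊗[A] B := Algebra.TensorProduct.includeRight
  have hspan : Ideal.span (Set.range fun i => ((1 : A') ⊗ₜ[A] f i : A' ⊗[A] B)) = 𝐉.map incl := by
    rw [Ideal.map_span, ← Set.range_comp]
    rfl
  by_cases hd : d ∈ Mon r n
  swap
  · rw [hP.coeff_eq_zero (fun h => hd ((mem_Mon d).2 h))]
    exact zero_mem _
  -- tensor descriptions
  let mkJ : B →ₗ[A] B ⧸ 𝐉 := (Ideal.Quotient.mkₐ A 𝐉).toLinearMap
  let mkN : B →ₗ[A] B ⧸ 𝐉 ^ (n + 1) := (Ideal.Quotient.mkₐ A (𝐉 ^ (n + 1))).toLinearMap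
  have hker : ∀ (I : Ideal B) (z : A' ⊗[A] B), z ∈ I.map incl →
      (Ideal.Quotient.mkₐ A I).toLinearMap.lTensor A' z = 0 := by
    intro I z hz
    have hle : I.map incl ≤ RingHom.ker (Algebra.TensorProduct.map (AlgHom.id A A') (Ideal.Quotient.mkₐ A I)).toRingHom := by
      rw [Ideal.map_le_iff_le_comap]
      intro b hb
      show Algebra.TensorProduct.map (AlgHom.id A A') (Ideal.Quotient.mkₐ A I) ((1 : A') ⊗ₜ[A] b) = 0
      rw [Algebra.TensorProduct.map_tmul, show Ideal.Quotient.mkₐ A I b = 0 from Ideal.Quotient.eq_zero_iff_mem.2 hb,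
        TensorProduct.tmul_zero]
    exact hle hz
  have hker' : ∀ z : A' ⊗[A] B, mkJ.lTensor A' z = 0 → z ∈ 𝐉.map incl := by
    intro z hz
    let j : ↥(𝐉.restrictScalars A) →ₗ[A] B := (𝐉.restrictScalars A).subtype
    have hex : Function.Exact j mkJ := fun y =>
      ⟨fun h => ⟨⟨y, Ideal.Quotient.eq_zero_iff_mem.1 h⟩, rfl⟩,
        fun ⟨w, hw⟩ => hw ▸ Ideal.Quotient.eq_zero_iff_mem.2 w.2⟩
    obtain ⟨w, rfl⟩ := (lTensor_exact A' hex Ideal.Quotient.mk_surjective z).1 hz
    induction w using TensorProduct.induction_on with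
    | zero => simp
    | tmul a x =>
      rw [LinearMap.lTensor_tmul, show a ⊗ₜ[A] (j x) = (a ⊗ₜ[A] (1 : B)) * ((1 : A') ⊗ₜ[A] (x : B)) by
        rw [Algebra.TensorProduct.tmul_mul_tmul, mul_one, one_mul]; rfl]
      exact Ideal.mul_mem_left _ _ (Ideal.mem_map_of_mem incl x.2)
    | add x y hx hy =>
      rw [map_add]
      exact add_mem (hx ((lTensor_exact A' hex Ideal.Quotient.mk_surjective _).2 ⟨x, rfl⟩))
        (hy ((lTensor_exact A' hex Ideal.Quotient.mk_surjective _).2 ⟨y, rfl⟩))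
  rw [hspan]
  refine hker' _ ?_
  -- the element of the tensored graded piece
  let S : (Mon r n) → (B ⧸ 𝐉) →ₗ[A] (Mon r n → B ⧸ 𝐉) := fun e => LinearMap.single A (fun _ => B ⧸ 𝐉) e
  let Z : A' ⊗[A] (Mon r n → B ⧸ 𝐉) :=
    ∑ e : Mon r n, (S e).lTensor A' (mkJ.lTensor A' (P.coeff (e : Fin r →₀ ℕ)))
  let q : (Mon r n → B ⧸ 𝐉) →ₗ[A] (B ⧸ 𝐉) := LinearMap.proj (⟨d, hd⟩ : Mon r n)
  have hZd : q.lTensor A' Z = mkJ.lTensor A' (P.coeff d) := by
    rw [map_sum, Finset.sum_eq_single (⟨d, hd⟩ : Mon r n)]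
    · rw [← LinearMap.lTensor_comp_apply,
        show q ∘ₗ S ⟨d, hd⟩ = LinearMap.id from LinearMap.ext fun x => by simp [q, S], LinearMap.lTensor_id,
        LinearMap.id_apply]
    · intro e _ he
      rw [← LinearMap.lTensor_comp_apply, show q ∘ₗ S e = 0 from LinearMap.ext fun x => by
        simp [q, S, Pi.single_eq_of_ne' he], LinearMap.lTensor_zero, LinearMap.zero_apply]
    · simp
  rw [← hZd]
  suffices Z = 0 by rw [this, map_zero]
  have hinj : Function.Injective (((iota f n hq).restrictScalars A).lTensor A') :=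
    (LinearMap.lTensor_inj_iff_rTensor_inj A' _).2 (iota_rTensor_injective f hq n A')
  refine (injective_iff_map_eq_zero _).1 hinj Z ?_
  have hterm : ∀ (e : Mon r n) (c : A' ⊗[A] B),
      ((iota f n hq).restrictScalars A).lTensor A' ((S e).lTensor A' (mkJ.lTensor A' c)) =
        mkN.lTensor A' (eval (fun i => ((1 : A') ⊗ₜ[A] f i : A' ⊗[A] B)) (monomial (e : Fin r →₀ ℕ) c)) := by
    intro e c
    induction c using TensorProduct.induction_on with
    | zero => simp
    | add x y hx hy => simp only [map_add, hx, hy]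
    | tmul a b =>
      have hs : S e (mkJ b) = fun d => Submodule.Quotient.mk ((Pi.single e b : Mon r n → B) d) := by
        funext d
        by_cases h : d = e
        · subst h; simp [S, mkJ]
        · simp [S, h]
      simp only [LinearMap.lTensor_tmul, LinearMap.restrictScalars_apply, hs, iota_mk]
      have h1 : Phi f n (Pi.single e b) = mkN (eval f (monomial (e : Fin r →₀ ℕ) b)) := by
        show Ideal.Quotient.mk _ _ = Ideal.Quotient.mk _ _
        rw [Finset.sum_eq_single e (fun d _ hde => by rw [Pi.single_eq_of_ne hde, map_zero]) (by simp),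
          Pi.single_eq_same]
      rw [h1, ← LinearMap.lTensor_tmul]
      congr 1
      rw [eval_monomial, eval_monomial]
      rw [show (Finsupp.prod (e : Fin r →₀ ℕ) fun i k => ((1 : A') ⊗ₜ[A] f i : A' ⊗[A] B) ^ k) =
        incl (Finsupp.prod (e : Fin r →₀ ℕ) fun i k => f i ^ k) by
        rw [map_finsuppProd]; simp [incl]]
      show a ⊗ₜ[A] (b * _) = (a ⊗ₜ[A] b) * ((1 : A') ⊗ₜ[A] _)
      rw [Algebra.TensorProduct.tmul_mul_tmul, mul_one]
  rw [map_sum]
  simp only [hterm]
  rw [← map_sum, ← map_sum]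
  have hPsum : (∑ e : Mon r n, monomial (e : Fin r →₀ ℕ) (P.coeff (e : Fin r →₀ ℕ))) = P := by
    refine MvPolynomial.ext _ _ fun e => ?_
    rw [coeff_sum]
    by_cases he : e ∈ Mon r n
    · rw [Finset.sum_eq_single ⟨e, he⟩ (fun d _ hd => by
        rw [coeff_monomial, if_neg (fun h => hd (Subtype.ext h))]) (by simp), coeff_monomial, if_pos rfl]
    · rw [Finset.sum_eq_zero fun d _ => by rw [coeff_monomial, if_neg]; exact fun h : (d : Fin r →₀ ℕ) = e => he (h ▸ d.2)]
      exact (hP.coeff_eq_zero (fun h => he ((mem_Mon e).2 h))).symm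
  rw [hPsum]
  refine hker _ _ ?_
  rw [Ideal.map_pow, ← hspan]
  exact heval

end Groth.Agent.QRegBC
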