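import Mathlib
import Groth.Prelude.Def_CAlgX
import Groth.Agent.QRegBC.Basic
import Groth.Agent.LinType.QReg
import Groth.Agent.Triage.SliceFlat

/-! Lifting quasi-regular sequences with flat (smooth) quotient over locally nilpotent thickenings. -/

set_option autoImplicit false
set_option linter.style.haveILetI false
set_option backward.isDefEq.respectTransparency.types false

universe u

open MvPolynomial TensorProduct IsLocalRing

namespace Groth.Agent.QRegBC

/-- Quasi-regular sequences stay quasi-regular after localisation. -/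
theorem isQuasiRegular_localization {S R : Type u} [CommRing S] [CommRing R] [Algebra S R] (M : Submonoid S)
    [IsLocalization M R] {r : ℕ} (f : Fin r → S) (hq : CAlgX.IsQuasiRegular f) :
    CAlgX.IsQuasiRegular (fun i => algebraMap S R (f i)) := by
  classical
  intro n P hP heval d
  have hspan : Ideal.span (Set.range fun i => algebraMap S R (f i)) = (Ideal.span (Set.range f)).map (algebraMap S R) := by
    rw [Ideal.map_span, ← Set.range_comp]
    rfl
  rw [hspan] at heval ⊢
  obtain ⟨s, hs⟩ := IsLocalization.exist_integer_multiples M P.support (fun e => P.coeff e)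
  choose c hc using hs
  let P₀ : MvPolynomial (Fin r) S := ∑ e : P.support, monomial (e : Fin r →₀ ℕ) (c e e.2)
  have hP₀ : P₀.IsHomogeneous n :=
    IsHomogeneous.sum _ _ _ fun e _ => isHomogeneous_monomial _ (by
      have := hP (mem_support_iff.1 e.2)
      simpa [Finsupp.degree_eq_weight_one, Pi.one_def] using this)
  have hmap : MvPolynomial.map (algebraMap S R) P₀ = MvPolynomial.C (algebraMap S R (s : S)) * P := by
    conv_rhs => rw [P.as_sum, Finset.mul_sum]
    rw [map_sum, ← Finset.sum_coe_sort P.support]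
    refine Finset.sum_congr rfl fun e _ => ?_
    rw [map_monomial, C_mul_monomial, hc, Algebra.smul_def]
  have hev : algebraMap S R (eval f P₀) = algebraMap S R (s : S) * eval (fun i => algebraMap S R (f i)) P := by
    rw [eval₂_comp, ← eval₂_id (g := fun i => algebraMap S R (f i)), ← eval_C (f := fun i => algebraMap S R (f i)) (algebraMap S R (s : S)),
      eval₂_id, ← map_mul, ← hmap, eval_map]
    rfl
  have h1 : algebraMap S R (eval f P₀) ∈ (Ideal.span (Set.range f) ^ (n + 1)).map (algebraMap S R) := by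
    rw [hev, Ideal.map_pow]
    exact Ideal.mul_mem_left _ _ heval
  rw [IsLocalization.algebraMap_mem_map_algebraMap_iff M] at h1
  obtain ⟨m, hm, hm'⟩ := h1
  have h2 := hq n (MvPolynomial.C m * P₀) (hP₀.C_mul m) (by rwa [map_mul, eval_C]) d
  rw [coeff_C_mul] at h2
  have h3 := Ideal.mem_map_of_mem (algebraMap S R) h2
  rw [map_mul, ← coeff_map, hmap, coeff_C_mul, ← mul_assoc] at h3
  exact (Ideal.unit_mul_mem_iff_mem _ ((IsLocalization.map_units R (⟨m, hm⟩ : M)).mul (IsLocalization.map_units R s))).1 h3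

section lift

variable {A' B' : Type u} [CommRing A'] [CommRing B'] [Algebra A' B'] [Module.Flat A' B']
  [Algebra.FinitePresentation A' B'] (I : Ideal A') {r : ℕ} (f' : Fin r → B')

/-- Regularity on the fibre at `Q`. -/
theorem regular_fibre (p : Ideal A') [p.IsPrime] (hIp : I ≤ p) (Q : Ideal B') [Q.IsPrime] [Q.LiesOver p]
    (hfQ : ∀ i, f' i ∈ Q)
    (hq : CAlgX.IsQuasiRegular (fun i => Ideal.Quotient.mk (Ideal.map (algebraMap A' B') I) (f' i)))
    (hflat : Module.Flat (A' ⧸ I)
      ((B' ⧸ Ideal.map (algebraMap A' B') I) ⧸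
        Ideal.span (Set.range (fun i => Ideal.Quotient.mk (Ideal.map (algebraMap A' B') I) (f' i))))) :
    ∀ i (hi : i < (List.ofFn f').length), ∀ t, (List.ofFn f')[i] * t ∈
        FlatModel.sat p (Ideal.ofList ((List.ofFn f').take i)) Q.primeCompl →
      t ∈ FlatModel.sat p (Ideal.ofList ((List.ofFn f').take i)) Q.primeCompl := by
  classical
  let B := B' ⧸ Ideal.map (algebraMap A' B') I
  let κ := p.ResidueField
  letI algκ : Algebra (A' ⧸ I) κ := (Ideal.Quotient.lift I (algebraMap A' κ)
    (fun a ha => Ideal.algebraMap_residueField_eq_zero.2 (hIp ha))).toAlgebra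
  haveI : Algebra.FiniteType (A' ⧸ I) B := Algebra.FiniteType.of_restrictScalars_finiteType A' (A' ⧸ I) B
  let F := κ ⊗[A' ⧸ I] B
  haveI : IsNoetherianRing F := Algebra.FiniteType.isNoetherianRing κ F
  let inc : B →ₐ[A' ⧸ I] F := Algebra.TensorProduct.includeRight
  have hqF : CAlgX.IsQuasiRegular (fun i => inc (Ideal.Quotient.mk _ (f' i))) := by
    haveI := hflat
    exact isQuasiRegular_baseChange _ κ hq
  -- the local ring of the fibre
  let L := Localization.AtPrime Q
  let P : Ideal L := p.map (algebraMap A' L)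
  have hQp : ∀ a : A', algebraMap A' B' a ∈ Q ↔ a ∈ p := fun a => by
    rw [Q.over_def p]; rfl
  have hPtop : P ≠ ⊤ := fun h => by
    have hle : P ≤ maximalIdeal L := Ideal.map_le_iff_le_comap.2 fun a ha => by
      rw [Ideal.mem_comap, IsScalarTower.algebraMap_apply A' B' L, IsLocalization.AtPrime.to_map_mem_maximal_iff L Q]
      exact (hQp a).2 ha
    exact (maximalIdeal.isMaximal L).ne_top (top_le_iff.1 (h.ge.trans hle))
  let R' := L ⧸ P
  haveI : Nontrivial R' := Ideal.Quotient.nontrivial_iff.2 hPtop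
  haveI : IsLocalRing R' := IsLocalRing.of_surjective' (Ideal.Quotient.mk P) Ideal.Quotient.mk_surjective
  let gA : A' →+* R' := (Ideal.Quotient.mk P).comp (algebraMap A' L)
  have hgp : p ≤ RingHom.ker gA := fun a ha => Ideal.Quotient.eq_zero_iff_mem.2 (Ideal.mem_map_of_mem _ ha)
  let gκ : κ →+* R' := Ideal.ResidueField.lift p gA hgp fun a ha => by
    show IsUnit (Ideal.Quotient.mk P (algebraMap A' L a))
    rw [IsScalarTower.algebraMap_apply A' B' L]
    exact (IsLocalization.map_units L (⟨algebraMap A' B' a, fun h => ha ((hQp a).1 h)⟩ : Q.primeCompl)).map _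
  letI : Algebra (A' ⧸ I) R' := (Ideal.Quotient.lift I gA fun a ha => hgp (hIp ha)).toAlgebra
  have hκc : ∀ z : A' ⧸ I, gκ (algebraMap (A' ⧸ I) κ z) = algebraMap (A' ⧸ I) R' z := by
    intro z
    obtain ⟨a, rfl⟩ := Ideal.Quotient.mk_surjective z
    exact Ideal.ResidueField.lift_algebraMap p gA hgp _ a
  let gκ' : κ →ₐ[A' ⧸ I] R' := { gκ with commutes' := hκc }
  let gB : B →ₐ[A' ⧸ I] R' :=
    { Ideal.Quotient.lift (Ideal.map (algebraMap A' B') I) ((Ideal.Quotient.mk P).comp (algebraMap B' L)) (fun b hb => by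
        have hle : Ideal.map (algebraMap A' B') I ≤ RingHom.ker ((Ideal.Quotient.mk P).comp (algebraMap B' L)) :=
          Ideal.map_le_iff_le_comap.2 fun a ha => by
            show Ideal.Quotient.mk P (algebraMap B' L (algebraMap A' B' a)) = 0
            rw [← IsScalarTower.algebraMap_apply]
            exact hgp (hIp ha)
        exact hle hb) with
      commutes' := fun z => by
        obtain ⟨a, rfl⟩ := Ideal.Quotient.mk_surjective z
        show Ideal.Quotient.mk P (algebraMap B' L (algebraMap A' B' a)) = Ideal.Quotient.mk P (algebraMap A' L a)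
        rw [← IsScalarTower.algebraMap_apply] }
  let σ : F →ₐ[A' ⧸ I] R' := Algebra.TensorProduct.lift gκ' gB fun _ _ => Commute.all _ _
  let φ : B' →+* F := inc.toRingHom.comp (Ideal.Quotient.mk _)
  have hσφ : ∀ b, σ (φ b) = Ideal.Quotient.mk P (algebraMap B' L b) := fun b => by
    show σ ((1 : κ) ⊗ₜ[A' ⧸ I] (Ideal.Quotient.mk _ b : B)) = _
    rw [Algebra.TensorProduct.lift_tmul, map_one, one_mul]
    rfl
  have hφp : ∀ a ∈ p, φ (algebraMap A' B' a) = 0 := fun a ha => by
    show inc (algebraMap (A' ⧸ I) B (Ideal.Quotient.mk I a)) = 0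
    rw [inc.commutes, Algebra.TensorProduct.algebraMap_apply,
      show algebraMap (A' ⧸ I) κ (Ideal.Quotient.mk I a) = algebraMap A' κ a from rfl,
      Ideal.algebraMap_residueField_eq_zero.2 ha, TensorProduct.zero_tmul]
  let q : Ideal F := (maximalIdeal R').comap σ.toRingHom
  haveI : q.IsPrime := Ideal.comap_isPrime _ _
  let R := Localization.AtPrime q
  haveI : IsNoetherianRing R := IsLocalization.isNoetherianRing q.primeCompl R inferInstance
  let τ : R →+* R' := IsLocalization.lift (M := q.primeCompl) (g := σ.toRingHom) fun y =>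
    (IsLocalRing.notMem_maximalIdeal).1 y.2
  let ψ : B' →+* R := (algebraMap F R).comp φ
  have hτψ : ∀ b, τ (ψ b) = Ideal.Quotient.mk P (algebraMap B' L b) := fun b => by
    show τ (algebraMap F R (φ b)) = _
    rw [IsLocalization.lift_eq]
    exact hσφ b
  have hmax : ∀ b ∈ Q, φ b ∈ q := fun b hb => by
    show σ (φ b) ∈ maximalIdeal R'
    rw [hσφ, IsLocalRing.mem_maximalIdeal, mem_nonunits_iff]
    intro hu
    haveI : IsLocalHom (Ideal.Quotient.mk P) := IsLocalHom.of_surjective _ Ideal.Quotient.mk_surjective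
    exact ((IsLocalization.AtPrime.to_map_mem_maximal_iff L Q b).2 hb) (isUnit_of_map_unit (Ideal.Quotient.mk P) _ hu)
  have hw : RingTheory.Sequence.IsWeaklyRegular R (List.ofFn fun i => ψ (f' i)) := by
    refine LinType.isWeaklyRegular_of_isQuasiRegular r R _ (fun i => ?_)
      (isQuasiRegular_localization q.primeCompl _ hqF)
    rw [IsLocalRing.ringJacobson_eq_maximalIdeal]
    exact (IsLocalization.AtPrime.to_map_mem_maximal_iff R q _).2 (hmax _ (hfQ i))
  intro i hi t ht
  obtain ⟨w, hw', hwt⟩ := ht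
  have hmapI : ∀ {S : Type u} [Semiring S] (g : B' →+* S),
      (Ideal.ofList ((List.ofFn f').take i)).map g = Ideal.ofList ((List.ofFn fun j => g (f' j)).take i) := by
    intro S _ g
    rw [Ideal.map_ofList, List.map_take, List.map_ofFn]
    rfl
  have h1 : ψ (w * ((List.ofFn f')[i] * t)) ∈ Ideal.ofList ((List.ofFn fun j => ψ (f' j)).take i) := by
    have := Ideal.mem_map_of_mem ψ hwt
    rw [Ideal.map_sup, Ideal.map_map, hmapI] at this
    have hle : Ideal.ofList ((List.ofFn fun j => ψ (f' j)).take i) ⊔ p.map (ψ.comp (algebraMap A' B')) ≤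
        Ideal.ofList ((List.ofFn fun j => ψ (f' j)).take i) := by
      refine sup_le le_rfl (Ideal.map_le_iff_le_comap.2 fun a ha => ?_)
      rw [Ideal.mem_comap, RingHom.comp_apply]
      rw [show ψ (algebraMap A' B' a) = 0 by show algebraMap F R (φ _) = 0; rw [hφp a ha, map_zero]]
      exact zero_mem _
    exact hle this
  have hwu : IsUnit (ψ w) := by
    refine IsLocalization.map_units R (⟨φ w, fun h => ?_⟩ : q.primeCompl)
    change σ (φ w) ∈ maximalIdeal R' at h
    rw [hσφ] at h
    exact h ((IsLocalization.map_units L (⟨w, hw'⟩ : Q.primeCompl)).map _)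
  rw [map_mul, Ideal.unit_mul_mem_iff_mem _ hwu, map_mul] at h1
  have hlen : i < (List.ofFn fun j => ψ (f' j)).length := by simpa using hi
  have h2 : ψ t ∈ Ideal.ofList ((List.ofFn fun j => ψ (f' j)).take i) := by
    have h := isSMulRegular_iff_right_eq_zero_of_smul.1 (hw.regular_mod_prev i hlen) (Submodule.Quotient.mk (ψ t))
    simp only [smul_eq_mul, Ideal.mul_top, ← Submodule.Quotient.mk_smul, Submodule.Quotient.mk_eq_zero] at h
    exact h (by simpa using h1)
  have h3 := Ideal.mem_map_of_mem τ h2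
  rw [Ideal.map_ofList, List.map_take, List.map_ofFn, hτψ,
    show (τ ∘ fun j => ψ (f' j)) = fun j => ((Ideal.Quotient.mk P).comp (algebraMap B' L)) (f' j) from
      funext fun j => hτψ (f' j), ← hmapI, ← Ideal.map_map, ← Ideal.mem_comap,
    Ideal.comap_map_of_surjective _ Ideal.Quotient.mk_surjective, ← RingHom.ker_eq_comap_bot, Ideal.mk_ker,
    show P = (p.map (algebraMap A' B')).map (algebraMap B' L) by
      rw [Ideal.map_map, ← IsScalarTower.algebraMap_eq],
    ← Ideal.map_sup, IsLocalization.algebraMap_mem_map_algebraMap_iff Q.primeCompl] at h3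
  exact h3

/-- Flatness of the lifted quotient (S9270). -/
theorem flat_lift (hI : ∀ x ∈ I, IsNilpotent x)
    (hq : CAlgX.IsQuasiRegular (fun i => Ideal.Quotient.mk (Ideal.map (algebraMap A' B') I) (f' i)))
    (hflat : Module.Flat (A' ⧸ I)
      ((B' ⧸ Ideal.map (algebraMap A' B') I) ⧸
        Ideal.span (Set.range (fun i => Ideal.Quotient.mk (Ideal.map (algebraMap A' B') I) (f' i))))) :
    Module.Flat A' (B' ⧸ Ideal.span (Set.range f')) := by
  classical
  let J : Ideal B' := Ideal.span (Set.range f')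
  let s : Set B' := {g | Module.Flat A' (Localization.Away g ⊗[B'] (B' ⧸ J))}
  have hs : Ideal.span s = ⊤ := by
    by_contra h
    obtain ⟨Q, hQ, hsQ⟩ := Ideal.exists_le_maximal _ h
    haveI := hQ.isPrime
    by_cases hJ : J ≤ Q
    · let p : Ideal A' := Q.comap (algebraMap A' B')
      haveI : p.IsPrime := Ideal.comap_isPrime _ _
      haveI : Q.LiesOver p := ⟨rfl⟩
      have hIp : I ≤ p := fun x hx => by
        obtain ⟨n, hn⟩ := hI x hx
        exact Ideal.IsPrime.mem_of_pow_mem (I := p) inferInstance n (by rw [hn]; exact zero_mem _)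
      have hfQ : ∀ i, f' i ∈ Q := fun i => hJ (Ideal.subset_span ⟨i, rfl⟩)
      obtain ⟨g, hg, hgood⟩ := Triage.SliceFlat.exists_slice p Q (List.ofFn f')
        (fun f hf => by
          obtain ⟨i, rfl⟩ := List.mem_ofFn.1 hf
          exact hfQ i)
        (regular_fibre I f' p hIp Q hfQ hq hflat)
      refine hg (hsQ (Ideal.subset_span ?_))
      haveI : Module.Flat B' (Localization.Away g) := IsLocalization.flat _ (Submonoid.powers g)
      have hfl := (hgood (Localization.Away g) (IsLocalization.Away.algebraMap_isUnit g)).2 r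
      have hJl : Ideal.ofList ((List.ofFn f').take r) = J := by
        rw [List.take_of_length_le (by simp), Ideal.ofList]
        congr 1
        ext x
        simp [List.mem_ofFn]
      rw [hJl] at hfl
      exact Module.Flat.of_linearEquiv
        ((Algebra.TensorProduct.quotIdealMapEquivTensorQuot (Localization.Away g) J).symm.toLinearEquiv.restrictScalars A')
    · obtain ⟨g, hgJ, hgQ⟩ := SetLike.not_le_iff_exists.1 hJ
      refine hgQ (hsQ (Ideal.subset_span ?_))
      have hsub : Subsingleton (Localization.Away g ⊗[B'] (B' ⧸ J)) := by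
        refine subsingleton_of_forall_eq 0 fun z => ?_
        have hu : IsUnit (algebraMap B' (Localization.Away g) g) := IsLocalization.Away.algebraMap_isUnit g
        induction z using TensorProduct.induction_on with
        | zero => rfl
        | add a b ha hb => rw [ha, hb, add_zero]
        | tmul a b =>
          rw [show a = g • ((↑hu.unit⁻¹ : Localization.Away g) * a) by
            rw [Algebra.smul_def, ← mul_assoc, IsUnit.mul_val_inv, one_mul], TensorProduct.smul_tmul]
          obtain ⟨b, rfl⟩ := Ideal.Quotient.mk_surjective b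
          rw [show g • (Ideal.Quotient.mk J b : B' ⧸ J) = 0 from
            Ideal.Quotient.eq_zero_iff_mem.2 (Ideal.mul_mem_right _ _ hgJ), TensorProduct.tmul_zero]
      exact Module.Flat.of_free
  haveI : ∀ g : s, IsLocalizedModule.Away (g : B') (TensorProduct.mk B' (Localization.Away (g : B')) (B' ⧸ J) 1) :=
    fun g => (isLocalizedModule_iff_isBaseChange (Submonoid.powers (g : B')) (Localization.Away (g : B')) _).2
      (TensorProduct.isBaseChange B' (B' ⧸ J) (Localization.Away (g : B')))
  exact Module.flat_of_isLocalized_span (R := A') (S := B') (B' ⧸ J) s hs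
    (fun g : s => Localization.Away (g : B') ⊗[B'] (B' ⧸ J))
    (fun g : s => TensorProduct.mk B' (Localization.Away (g : B')) (B' ⧸ J) 1) (fun g => g.2)

/-- Smoothness of the lifted quotient (S9271). -/
theorem smooth_lift (hI : ∀ x ∈ I, IsNilpotent x)
    (hq : CAlgX.IsQuasiRegular (fun i => Ideal.Quotient.mk (Ideal.map (algebraMap A' B') I) (f' i)))
    (hsm : Algebra.Smooth (A' ⧸ I)
      ((B' ⧸ Ideal.map (algebraMap A' B') I) ⧸
        Ideal.span (Set.range (fun i => Ideal.Quotient.mk (Ideal.map (algebraMap A' B') I) (f' i))))) :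
    Algebra.Smooth A' (B' ⧸ Ideal.span (Set.range f')) := by
  classical
  let D := (B' ⧸ Ideal.map (algebraMap A' B') I) ⧸
    Ideal.span (Set.range (fun i => Ideal.Quotient.mk (Ideal.map (algebraMap A' B') I) (f' i)))
  let C := B' ⧸ Ideal.span (Set.range f')
  haveI : Algebra.FinitePresentation A' C :=
    Algebra.FinitePresentation.quotient (Submodule.fg_span (Set.finite_range f'))
  haveI : Module.Flat A' C := flat_lift I f' hI hq inferInstance
  refine Algebra.Smooth.of_formallySmooth_fiber fun p _ => ?_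
  have hIp : I ≤ p := fun x hx => by
    obtain ⟨n, hn⟩ := hI x hx
    exact Ideal.IsPrime.mem_of_pow_mem (I := p) inferInstance n (by rw [hn]; exact zero_mem _)
  let κ := p.ResidueField
  letI algκ : Algebra (A' ⧸ I) κ := (Ideal.Quotient.lift I (algebraMap A' κ)
    (fun a ha => Ideal.algebraMap_residueField_eq_zero.2 (hIp ha))).toAlgebra
  haveI : IsScalarTower A' (A' ⧸ I) κ := IsScalarTower.of_algebraMap_eq fun _ => rfl
  let π : C →ₐ[A'] D := Ideal.Quotient.liftₐ _
    ((Ideal.Quotient.mkₐ A' _).comp (Ideal.Quotient.mkₐ A' (Ideal.map (algebraMap A' B') I))) fun b hb => by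
      refine Ideal.Quotient.eq_zero_iff_mem.2 ?_
      have := Ideal.mem_map_of_mem (Ideal.Quotient.mk (Ideal.map (algebraMap A' B') I)) hb
      rw [Ideal.map_span, ← Set.range_comp] at this
      exact this
  let h₁ : B' →ₐ[A'] κ ⊗[A'] C := (Algebra.TensorProduct.includeRight).comp (Ideal.Quotient.mkₐ A' _)
  let h₂ : B' ⧸ Ideal.map (algebraMap A' B') I →ₐ[A'] κ ⊗[A'] C := Ideal.Quotient.liftₐ _ h₁ fun b hb => by
    have hle : Ideal.map (algebraMap A' B') I ≤ RingHom.ker h₁.toRingHom :=
      Ideal.map_le_iff_le_comap.2 fun a ha => by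
        show h₁ (algebraMap A' B' a) = 0
        rw [h₁.commutes, Algebra.TensorProduct.algebraMap_apply, Ideal.algebraMap_residueField_eq_zero.2 (hIp ha),
          TensorProduct.zero_tmul]
    exact hle hb
  let h₃ : D →ₐ[A'] κ ⊗[A'] C := Ideal.Quotient.liftₐ _ h₂ fun b hb => by
    refine (Ideal.span_le.2 ?_ : _ ≤ RingHom.ker h₂.toRingHom) hb
    rintro _ ⟨i, rfl⟩
    show (1 : κ) ⊗ₜ[A'] (Ideal.Quotient.mk (Ideal.span (Set.range f')) (f' i)) = 0
    rw [Ideal.Quotient.eq_zero_iff_mem.2 (Ideal.subset_span (Set.mem_range_self i)), TensorProduct.tmul_zero]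
  let h₄ : D →ₐ[A' ⧸ I] κ ⊗[A'] C := { h₃.toRingHom with
    commutes' := fun z => by
      obtain ⟨a, rfl⟩ := Ideal.Quotient.mk_surjective z
      exact h₃.commutes a }
  let inL : κ →ₐ[κ] κ ⊗[A'] C := Algebra.ofId _ _
  let e₁ : κ ⊗[A'] C →ₐ[κ] κ ⊗[A' ⧸ I] D := Algebra.TensorProduct.lift (Algebra.ofId κ _)
    (((Algebra.TensorProduct.includeRight : D →ₐ[A' ⧸ I] κ ⊗[A' ⧸ I] D).restrictScalars A').comp π)
    fun _ _ => Commute.all (S := κ ⊗[A' ⧸ I] D) _ _
  let e₂ : κ ⊗[A' ⧸ I] D →ₐ[κ] κ ⊗[A'] C := Algebra.TensorProduct.lift inL h₄ fun _ _ => Commute.all _ _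
  have e12 : e₁.comp e₂ = AlgHom.id κ _ := by
    refine Algebra.TensorProduct.ext' fun a d => ?_
    obtain ⟨d, rfl⟩ := Ideal.Quotient.mk_surjective d
    obtain ⟨d, rfl⟩ := Ideal.Quotient.mk_surjective d
    show e₁ ((a ⊗ₜ[A'] (1 : C)) * ((1 : κ) ⊗ₜ[A'] (Ideal.Quotient.mk _ d : C))) = _
    rw [Algebra.TensorProduct.tmul_mul_tmul, mul_one, one_mul, Algebra.TensorProduct.lift_tmul]
    show (a ⊗ₜ[A' ⧸ I] (1 : D)) * ((1 : κ) ⊗ₜ[A' ⧸ I] (π (Ideal.Quotient.mk _ d))) = _
    rw [Algebra.TensorProduct.tmul_mul_tmul, mul_one, one_mul]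
    rfl
  have e21 : e₂.comp e₁ = AlgHom.id κ _ := by
    refine Algebra.TensorProduct.ext' fun a c => ?_
    obtain ⟨c, rfl⟩ := Ideal.Quotient.mk_surjective c
    show e₂ ((a ⊗ₜ[A' ⧸ I] (1 : D)) * ((1 : κ) ⊗ₜ[A' ⧸ I] (π (Ideal.Quotient.mk _ c)))) = _
    rw [Algebra.TensorProduct.tmul_mul_tmul, mul_one, one_mul, Algebra.TensorProduct.lift_tmul]
    show (a ⊗ₜ[A'] (1 : C)) * ((1 : κ) ⊗ₜ[A'] (Ideal.Quotient.mk _ c : C)) = _
    rw [Algebra.TensorProduct.tmul_mul_tmul, mul_one, one_mul]
    rfl
  haveI : Algebra.FormallySmooth (A' ⧸ I) D := inferInstance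
  haveI : Algebra.FormallySmooth κ (κ ⊗[A' ⧸ I] D) := inferInstance
  let e : (κ ⊗[A' ⧸ I] D) ≃ₐ[κ] κ ⊗[A'] C := AlgEquiv.ofAlgHom e₂ e₁ e21 e12
  exact Algebra.FormallySmooth.of_equiv (R := κ) (A := κ ⊗[A' ⧸ I] D) e

end lift

end Groth.Agent.QRegBC
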